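import Cfsg.Agent.Lib.TwoRankInter.QuatEight
import Cfsg.Agent.Lib.PUnique.Basic
import Cfsg.Agent.Lib.PSolvable.HallHigman
import Cfsg.Agent.Lib.SylowIntersection.Quotient
import Cfsg.Agent.S5112
import Cfsg.Prelude.Def_CaseTheorems

/-!
Solvable groups in which two Sylow 2-subgroups meet in a subgroup of 2-rank at most one.
-/

set_option autoImplicit false
set_option linter.style.haveILetI false

namespace Cfsg.Agent.Lib.TwoRankInter

open Subgroup
open Cfsg.Agent.Lib

instance factTwo : Fact (Nat.Prime 2) := ⟨Nat.prime_two⟩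

theorem pRankLE_of_injective {p k : ℕ} {X Y : Type*} [Group X] [Group Y] (f : X →* Y)
    (hf : Function.Injective f) (h : Cfsg.PRankLE p k Y) : Cfsg.PRankLE p k X := by
  intro A hA hpow
  haveI := hA
  rw [Nat.card_congr (A.equivMapOfInjective f hf).toEquiv]
  refine h _ (map_isMulCommutative A f) ?_
  rintro _ ⟨a, ha, rfl⟩
  rw [← map_pow, hpow a ha, map_one]

/-- The hypothesis passes to a quotient by a subgroup of odd order. -/
theorem pRankLE_inter_quotient {G : Type*} [Group G] [Finite G] (N : Subgroup G) [N.Normal]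
    (hN : (Nat.card N).Coprime 2)
    (hI : ∀ S T : Sylow 2 G, S ≠ T → Cfsg.PRankLE 2 1 ↥((S : Subgroup G) ⊓ (T : Subgroup G)))
    (S T : Sylow 2 (G ⧸ N)) (hne : S ≠ T) :
    Cfsg.PRankLE 2 1 ↥((S : Subgroup (G ⧸ N)) ⊓ (T : Subgroup (G ⧸ N))) := by
  obtain ⟨S', T', hne', R, hR, hRm⟩ := SylowIntersection.exists_sylow_inter N S T hne
  rw [← hRm]
  have hinj : Function.Injective ((QuotientGroup.mk' N).subgroupMap R) := by
    rw [injective_iff_map_eq_one]
    intro x hx
    have h1 : (x : G) ∈ R ⊓ N := ⟨x.2, (QuotientGroup.eq_one_iff _).mp (congrArg Subtype.val hx)⟩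
    rw [PSolvable.inf_eq_bot_of_isPGroup_of_coprime (S'.2.to_le (hR.trans inf_le_left)) hN,
      mem_bot] at h1
    exact Subtype.ext h1
  let e : R ≃* R.map (QuotientGroup.mk' N) :=
    MulEquiv.ofBijective _ ⟨hinj, (QuotientGroup.mk' N).subgroupMap_surjective R⟩
  exact pRankLE_of_injective ((inclusion hR).comp e.symm.toMonoidHom)
    ((inclusion_injective hR).comp e.symm.injective) (hI S' T' hne')

theorem card_sup_of_le_normalizer {G : Type*} [Group G] [Finite G] {A B : Subgroup G}
    (hB : B ≤ normalizer (A : Set G)) (hc : (Nat.card B).Coprime (Nat.card A)) :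
    Nat.card ↥(A ⊔ B) = Nat.card A * Nat.card B := by
  rw [← Nat.card_prod]
  refine (Nat.card_eq_of_bijective (fun x : A × B => (⟨(x.1 : G) * x.2,
    mul_mem (mem_sup_left x.1.2) (mem_sup_right x.2.2)⟩ : ↥(A ⊔ B))) ⟨?_, ?_⟩).symm
  · intro x y hxy
    refine mul_injective_of_disjoint ?_ (congrArg Subtype.val hxy)
    rw [disjoint_iff]
    exact inf_eq_bot_of_coprime hc.symm
  · rintro ⟨g, hg⟩
    rw [← SetLike.mem_coe, coe_mul_of_right_le_normalizer_left _ _ hB] at hg
    obtain ⟨a, ha, b, hb, rfl⟩ := hg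
    exact ⟨(⟨a, ha⟩, ⟨b, hb⟩), rfl⟩

theorem orderOf_two_unique {U : Type*} [Group U] [Finite U] (hU : IsPGroup 2 U)
    (h : Cfsg.PRankLE 2 1 U) {a b : U} (ha : orderOf a = 2) (hb : orderOf b = 2) : a = b := by
  haveI : Nontrivial U := ⟨a, 1, fun e => by rw [e, orderOf_one] at ha; norm_num at ha⟩
  haveI := hU.center_nontrivial
  obtain ⟨n, hn0, hn⟩ := (hU.to_subgroup (center U)).nontrivial_iff_card.mp inferInstance
  obtain ⟨z, hz⟩ := exists_prime_orderOf_dvd_card' (G := center U) 2
    (hn ▸ dvd_pow_self 2 hn0.ne')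
  have key : ∀ c : U, orderOf c = 2 → c = (z : U) := by
    intro c hc
    by_contra hne
    set A := closure ({c, (z : U)} : Set U)
    have hcz : c * (z : U) = (z : U) * c := mem_center_iff.mp z.2 c
    haveI hA : IsMulCommutative A := isMulCommutative_closure (by
      rintro x (rfl | rfl) y (rfl | rfl)
      exacts [rfl, hcz, hcz.symm, rfl])
    have hexp : ∀ x ∈ A, x ^ 2 = 1 := by
      intro x hx
      induction hx using closure_induction with
      | mem x hx =>
        rcases hx with rfl | rfl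
        · rw [← hc, pow_orderOf_eq_one]
        · rw [← hz, ← Subgroup.orderOf_coe, pow_orderOf_eq_one]
      | one => exact one_pow 2
      | mul x y hx hy ihx ihy =>
        have hxy : Commute x y := congrArg Subtype.val (mul_comm' (⟨x, hx⟩ : A) ⟨y, hy⟩)
        rw [hxy.mul_pow, ihx, ihy, one_mul]
      | inv x _ ih => rw [inv_pow, ih, inv_one]
    have h2 := h A hA hexp
    have hle : ({1, c, (z : U)} : Set U) ⊆ A := by
      rintro x (rfl | rfl | rfl)
      · exact one_mem _
      · exact subset_closure (Or.inl rfl)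
      · exact subset_closure (Or.inr rfl)
    have h3 := Set.ncard_le_ncard hle (Set.toFinite _)
    have hc1 : (1 : U) ≠ c := fun e => by rw [← e, orderOf_one] at hc; norm_num at hc
    have hz1 : (1 : U) ≠ (z : U) := fun e => by
      rw [← Subgroup.orderOf_coe, ← e, orderOf_one] at hz; norm_num at hz
    rw [← Nat.card_coe_set_eq (A : Set U), Set.ncard_eq_three.mpr ⟨1, c, (z : U), hc1, hz1, hne, rfl⟩]
      at h3
    rw [pow_one] at h2
    exact absurd (h3.trans h2) (by norm_num)
  rw [key a ha, key b hb]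

theorem isCyclic_or_quaternion_of_unique {U : Type*} [Group U] [Finite U] (hU : IsPGroup 2 U)
    (h : ∀ a b : U, orderOf a = 2 → orderOf b = 2 → a = b) :
    IsCyclic U ∨ ∃ n : ℕ, Nonempty (U ≃* QuaternionGroup (2 ^ n)) := by
  refine (PUnique.isCyclic_or_quaternion hU ?_).imp_right fun h => h.2
  intro H K hH hK
  have key : ∀ A : Subgroup U, Nat.card A = 2 → ∀ x : U, orderOf x = 2 → x ∈ A := by
    intro A hA x hx
    obtain ⟨y, hy⟩ := exists_prime_orderOf_dvd_card' (G := A) 2 (by rw [hA])
    rw [← Subgroup.orderOf_coe] at hy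
    rw [h x y hx hy]
    exact y.2
  have hle : ∀ A B : Subgroup U, Nat.card A = 2 → Nat.card B = 2 → A ≤ B := by
    intro A B hA hB x hx
    rcases eq_or_ne x 1 with rfl | hx1
    · exact one_mem _
    refine key B hB x ?_
    have hd : orderOf x ∣ 2 := hA ▸ orderOf_dvd_natCard A hx
    rcases (Nat.prime_two.eq_one_or_self_of_dvd _ hd) with h1 | h1
    · exact absurd (orderOf_eq_one_iff.mp h1) hx1
    · exact h1
  exact le_antisymm (hle H K hH hK) (hle K H hK hH)

theorem isPGroup_mulAut_of_isCyclic {U : Type*} [Group U] [Finite U] (hU : IsPGroup 2 U)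
    (hc : IsCyclic U) : IsPGroup 2 (MulAut U) := by
  obtain ⟨n, hn⟩ := IsPGroup.iff_card.mp hU
  have h : Nat.card (MulAut U) = Nat.totient (2 ^ n) := by rw [IsCyclic.card_mulAut, hn]
  rcases Nat.eq_zero_or_pos n with rfl | hn0
  · exact IsPGroup.iff_card.mpr ⟨0, by rw [h]; simp⟩
  · exact IsPGroup.iff_card.mpr ⟨n - 1, by rw [h, Nat.totient_prime_pow Nat.prime_two hn0]; simp⟩

theorem perm4_normal_four : ∀ v : Equiv.Perm (Fin 4), v ^ 4 = 1 → v ≠ 1 →
    (∀ σ : Equiv.Perm (Fin 4), σ * σ = 1 → (∀ i, σ i ≠ i) → ∃ τ, τ * v * τ⁻¹ = σ) ∨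
      4 < (Finset.univ.image fun τ : Equiv.Perm (Fin 4) => τ * v * τ⁻¹).card + 1 := by
  decide +kernel

theorem perm4_invert : ∀ τ : Equiv.Perm (Fin 4), τ * τ = 1 → τ ≠ 1 → (∃ i, τ i = i) →
    ∃ c : Equiv.Perm (Fin 4), c ^ 3 = 1 ∧ c ≠ 1 ∧ τ * c * τ⁻¹ = c⁻¹ := by
  decide +kernel

theorem quat8_center : ∀ x : QuaternionGroup 2,
    (∀ y, x * y = y * x) ↔ (x = .a 0 ∨ x = .a 2) := by
  decide +kernel

theorem quat8_not_comm : ∃ x y : QuaternionGroup 2, x * y ≠ y * x := by
  decide +kernel

/-- A fixed-point-free involution of `Sym(4)` lies in every normal subgroup of order 4. -/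
theorem mem_of_fpf {V : Subgroup (Equiv.Perm (Fin 4))} [hn : V.Normal] (hV : Nat.card V = 4)
    {σ : Equiv.Perm (Fin 4)} (hσ : σ * σ = 1) (hfix : ∀ i, σ i ≠ i) : σ ∈ V := by
  obtain ⟨v, hv⟩ := exists_prime_orderOf_dvd_card' (G := V) 2 (by rw [hV]; norm_num)
  rw [← Subgroup.orderOf_coe] at hv
  have hv4 : (v : Equiv.Perm (Fin 4)) ^ 4 = 1 :=
    orderOf_dvd_iff_pow_eq_one.mp (by rw [hv]; norm_num)
  have hv1 : (v : Equiv.Perm (Fin 4)) ≠ 1 := fun e => by
    rw [e, orderOf_one] at hv; norm_num at hv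
  rcases perm4_normal_four v hv4 hv1 with h | h
  · obtain ⟨τ, rfl⟩ := h σ hσ hfix
    exact hn.conj_mem _ v.2 τ
  · exfalso
    have hsub : ((Finset.univ.image fun τ : Equiv.Perm (Fin 4) =>
        τ * (v : Equiv.Perm (Fin 4)) * τ⁻¹) : Set (Equiv.Perm (Fin 4))) ⊆
          (V : Set (Equiv.Perm (Fin 4))) \ {1} := by
      intro x hx
      rw [Finset.mem_coe, Finset.mem_image] at hx
      obtain ⟨τ, -, rfl⟩ := hx
      refine ⟨hn.conj_mem _ v.2 τ, fun e => hv1 ?_⟩
      rw [Set.mem_singleton_iff, conj_eq_one_iff] at e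
      exact e
    have h1 := Set.ncard_le_ncard hsub (Set.toFinite _)
    rw [Set.ncard_coe_finset, Set.ncard_diff_singleton_of_mem (one_mem V),
      ← Nat.card_coe_set_eq] at h1
    have h2 : Nat.card (V : Set (Equiv.Perm (Fin 4))) = 4 := hV
    omega

variable {G : Type*} [Group G] [Finite G]

/-- The case `O₂(G) ≅ Q₈`. -/
theorem of_quaternion_eight (U : Subgroup G) [hUn : U.Normal] (e : U ≃* QuaternionGroup 2)
    (hC : centralizer (U : Set G) ≤ U) {S : Sylow 2 G} (hS : ¬ (S : Subgroup G).Normal)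
    (hUS : U ≤ (S : Subgroup G)) :
    Nonempty (G ≃* GL (Fin 2) (ZMod 3)) ∨
    (Nat.card G = 48 ∧ Nat.card ↥(center G) = 2 ∧
      Nonempty (G ⧸ center G ≃* Equiv.Perm (Fin 4)) ∧
      ∀ P : Sylow 2 G, Nonempty (↥(P : Subgroup G) ≃* QuaternionGroup 4)) := by
  have hU8 : Nat.card U = 8 := by
    rw [Nat.card_congr e.toEquiv, Nat.card_eq_fintype_card, QuaternionGroup.card]
  obtain ⟨Φ⟩ := Cfsg.Agent.S3742.result
  set φ : G →* Equiv.Perm (Fin 4) :=
    (Φ.toMonoidHom.comp (MulAut.congr e).toMonoidHom).comp MulAut.conjNormal with hφ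
  have hker : φ.ker = centralizer (U : Set G) := by
    ext g
    rw [MonoidHom.mem_ker, mem_centralizer_iff, hφ]
    simp only [MonoidHom.coe_comp, MulEquiv.coe_toMonoidHom, Function.comp_apply,
      EmbeddingLike.map_eq_one_iff]
    constructor
    · intro h u hu
      have h2 := congrArg (fun f : MulAut U => ((f ⟨u, hu⟩ : U) : G)) h
      simp only [MulAut.conjNormal_apply, MulAut.one_apply] at h2
      exact (mul_inv_eq_iff_eq_mul.mp h2).symm
    · intro h
      refine MulEquiv.ext fun u => Subtype.ext ?_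
      rw [MulAut.conjNormal_apply, MulAut.one_apply, ← h u u.2, mul_inv_cancel_right]
  -- the centraliser of `U` has order 2
  set z : G := ((e.symm (.a 2) : U) : G) with hz
  have hzC : z ∈ centralizer (U : Set G) := by
    rw [mem_centralizer_iff]
    intro u hu
    have h := ((quat8_center (.a 2)).mpr (Or.inr rfl)) (e ⟨u, hu⟩)
    have h2 := congrArg (fun x => ((e.symm x : U) : G)) h
    simp only [map_mul, MulEquiv.symm_apply_apply, Subgroup.coe_mul] at h2
    exact h2.symm
  have hmemC : ∀ c ∈ centralizer (U : Set G), c = 1 ∨ c = z := by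
    intro c hc
    have h : ∀ y, e ⟨c, hC hc⟩ * y = y * e ⟨c, hC hc⟩ := by
      intro y
      have h1 : (⟨c, hC hc⟩ : U) * e.symm y = e.symm y * ⟨c, hC hc⟩ :=
        Subtype.ext (mem_centralizer_iff.mp hc _ (e.symm y).2).symm
      simpa using congrArg e h1
    rcases (quat8_center _).mp h with h1 | h1
    · left
      have h2 := congrArg (fun x => ((e.symm x : U) : G)) h1
      simpa [show (QuaternionGroup.a 0 : QuaternionGroup 2) = 1 from rfl] using h2
    · right
      have h2 := congrArg (fun x => ((e.symm x : U) : G)) h1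
      simpa [hz] using h2
  have hz1 : z ≠ 1 := by
    intro h
    have h2 : e.symm (.a 2) = 1 := Subtype.ext h
    rw [MulEquiv.map_eq_one_iff] at h2
    exact absurd h2 (by decide)
  have hCcard : Nat.card (centralizer (U : Set G)) = 2 := by
    show Nat.card (centralizer (U : Set G) : Set G) = 2
    rw [Nat.card_coe_set_eq, Set.ncard_eq_two]
    refine ⟨1, z, Ne.symm hz1, Set.Subset.antisymm (fun c hc => hmemC c hc) ?_⟩
    rintro c (rfl | rfl)
    · exact one_mem _
    · exact hzC
  have hGdvd : Nat.card G ∣ 48 := by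
    rw [← card_mul_index φ.ker, index_ker, hker, hCcard]
    refine (Nat.mul_dvd_mul_left 2 (card_subgroup_dvd_card φ.range)).trans ?_
    rw [Nat.card_perm, Nat.card_fin]
    exact dvd_of_eq rfl
  obtain ⟨k, hk⟩ := IsPGroup.iff_card.mp S.2
  have hk4 : k = 4 := by
    have h1 : 2 ^ k ∣ 2 ^ 4 * 3 :=
      (hk ▸ card_subgroup_dvd_card (S : Subgroup G)).trans hGdvd
    have h2 : 2 ^ k ∣ 2 ^ 4 :=
      ((Nat.Coprime.pow_left k (by norm_num : Nat.Coprime 2 3))).dvd_of_dvd_mul_right h1
    have hle : k ≤ 4 := (Nat.pow_dvd_pow_iff_le_right (by norm_num)).mp h2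
    have hge : 3 ≤ k := by
      have : 2 ^ 3 ∣ 2 ^ k := by
        rw [← hk, show 2 ^ 3 = Nat.card U from hU8.symm]
        exact card_dvd_of_le hUS
      exact (Nat.pow_dvd_pow_iff_le_right (by norm_num)).mp this
    by_contra h4
    have hk3 : k = 3 := by omega
    refine hS ?_
    have : U = (S : Subgroup G) := eq_of_le_of_card_ge hUS (by rw [hU8, hk, hk3]; norm_num)
    rw [← this]; exact hUn
  have h16 : Nat.card (S : Subgroup G) = 16 := by rw [hk, hk4]; norm_num
  have hG48 : Nat.card G = 48 := by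
    obtain ⟨c, hc⟩ := h16 ▸ card_subgroup_dvd_card (S : Subgroup G)
    have h3 : c ∣ 3 := Nat.dvd_of_mul_dvd_mul_left (by norm_num : 0 < 16) (by
      rw [← hc]; exact hGdvd)
    rcases (Nat.prime_three.eq_one_or_self_of_dvd _ h3) with rfl | rfl
    · exfalso
      refine hS ?_
      have : (S : Subgroup G) = ⊤ := eq_top_of_card_eq _ (by rw [h16, hc])
      rw [this]; infer_instance
    · rw [hc]
  have hsurj : Function.Surjective φ := by
    rw [← MonoidHom.range_eq_top]
    refine eq_top_of_card_eq _ ?_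
    have h := card_mul_index φ.ker
    rw [index_ker, hker, hCcard, hG48] at h
    rw [Nat.card_perm, Nat.card_fin]
    show _ = 24
    omega
  have hzcen : z ∈ center G := by
    haveI : (centralizer (U : Set G)).Normal := hker ▸ φ.normal_ker
    rw [mem_center_iff]
    intro g
    rcases hmemC _ ((inferInstance : (centralizer (U : Set G)).Normal).conj_mem z hzC g) with h | h
    · exact absurd (conj_eq_one_iff.mp h) hz1
    · exact mul_inv_eq_iff_eq_mul.mp h
  have hcen : center G = φ.ker := by
    rw [hker]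
    refine le_antisymm (center_le_centralizer _) fun c hc => ?_
    rcases hmemC c hc with rfl | rfl
    · exact one_mem _
    · exact hzcen
  by_cases hinv : ∃ t : G, orderOf t = 2 ∧ t ∉ U
  · left
    obtain ⟨t, ht, htU⟩ := hinv
    have ht2 : t * t = 1 := by rw [← pow_two, ← ht, pow_orderOf_eq_one]
    set V := U.map φ with hVdef
    haveI : V.Normal := hUn.map φ hsurj
    have hV : Nat.card V = 4 := by
      have h := card_mul_index (φ.ker.subgroupOf U)
      rw [← relIndex, relIndex_ker, hker, Nat.card_congr (subgroupOfEquivOfLe hC).toEquiv, hCcard,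
        hU8] at h
      rw [hVdef]; omega
    have hτ2 : φ t * φ t = 1 := by rw [← map_mul, ht2, map_one]
    have hτ1 : φ t ≠ 1 := fun h => htU (hC (hker ▸ MonoidHom.mem_ker.mpr h))
    have hfixpt : ∃ i, φ t i = i := by
      by_contra hno
      push Not at hno
      obtain ⟨u, hu, hut⟩ := mem_of_fpf (V := V) hV hτ2 hno
      have : t * u⁻¹ ∈ centralizer (U : Set G) := by
        rw [← hker, MonoidHom.mem_ker, map_mul, map_inv, hut, mul_inv_cancel]
      exact htU (by simpa using mul_mem (hC this) hu)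
    obtain ⟨c, hc3, hc1, hcinv⟩ := perm4_invert (φ t) hτ2 hτ1 hfixpt
    obtain ⟨x₀, hx₀⟩ := hsurj c
    have hkz : ∀ w, φ w = 1 → w * w = 1 := by
      intro w hw
      rcases hmemC w (hker ▸ MonoidHom.mem_ker.mpr hw) with rfl | rfl
      · exact one_mul 1
      · have := (e.symm (.a 2) * e.symm (.a 2) : U)
        have h2 : (e.symm (.a 2) * e.symm (.a 2) : U) = 1 := by
          rw [← map_mul, show (QuaternionGroup.a 2 * .a 2 : QuaternionGroup 2) = 1 from rfl,
            map_one]
        exact congrArg Subtype.val h2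
    set x := x₀ ^ 4
    have hxc : φ x = c := by
      rw [map_pow, hx₀]
      show c ^ (3 + 1) = c
      rw [pow_succ, hc3, one_mul]
    have hx3 : x ^ 3 = 1 := by
      have hw := hkz (x₀ ^ 3) (by rw [map_pow, hx₀, hc3])
      rw [← pow_mul, show 4 * 3 = 3 * 2 * 2 from rfl, pow_mul, pow_mul, pow_two (x₀ ^ 3), hw, one_pow]
    have hx1 : x ≠ 1 := fun h => hc1 (by rw [← hxc, h, map_one])
    have hxo : orderOf x = 3 := by
      haveI : Fact (Nat.Prime 3) := ⟨Nat.prime_three⟩
      exact orderOf_eq_prime hx3 hx1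
    set w := t * x * t⁻¹ * x with hwdef
    have hwker : φ w = 1 := by
      rw [hwdef, map_mul, map_mul, map_mul, map_inv, hxc, hcinv, inv_mul_cancel]
    have hwcen : w ∈ center G := hcen ▸ MonoidHom.mem_ker.mpr hwker
    have htx : t * x * t⁻¹ = w * x⁻¹ := by rw [hwdef, mul_inv_cancel_right]
    have hw3 : w ^ 3 = 1 := by
      have hcm : Commute w x⁻¹ := (mem_center_iff.mp hwcen x⁻¹).symm
      have h := congrArg (fun g => g ^ 3) htx
      simp only [conj_pow, hx3, mul_one, mul_inv_cancel, hcm.mul_pow, inv_pow, inv_one] at h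
      exact h.symm
    have hw1 : w = 1 := by
      rw [show (3 : ℕ) = 2 + 1 from rfl, pow_succ, pow_two, hkz w hwker, one_mul] at hw3
      exact hw3
    rw [hw1, one_mul] at htx
    have htN : zpowers t ≤ normalizer (zpowers x : Set G) := by
      rw [zpowers_le, mem_normalizer_iff]
      have key : ∀ g ∈ zpowers x, t * g * t⁻¹ ∈ zpowers x := by
        rintro _ ⟨i, rfl⟩
        rw [← conj_zpow, htx]
        exact zpow_mem (inv_mem (mem_zpowers x)) i
      intro g
      refine ⟨key g, fun hg => ?_⟩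
      have h := key _ hg
      have ht' : t⁻¹ = t := inv_eq_of_mul_eq_one_right ht2
      simp only [ht'] at h
      simpa [← mul_assoc, ht2, mul_assoc g t t] using h
    set L := zpowers x ⊔ zpowers t
    have hLcard : Nat.card L = 6 := by
      have hb : (Nat.card (zpowers t)).Coprime (Nat.card (zpowers x)) := by
        rw [Nat.card_zpowers, Nat.card_zpowers, hxo, ht]; norm_num
      rw [card_sup_of_le_normalizer htN hb, Nat.card_zpowers, Nat.card_zpowers, hxo, ht]
    refine Split.nonempty_mulEquiv_gl23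
      { U := U, normal := hUn, e := e, cent := hC, L := L, card := hLcard,
        compl := isComplement'_of_card_mul_and_disjoint (by rw [hU8, hLcard, hG48]) ?_ }
    rw [disjoint_iff_inf_le]
    rintro g ⟨hgU, hgL⟩
    have hgL' : g ∈ ((L : Subgroup G) : Set G) := hgL
    rw [coe_mul_of_right_le_normalizer_left _ _ htN] at hgL'
    obtain ⟨a, ha, b, hb, rfl⟩ := hgL'
    simp only [SetLike.mem_coe] at ha hb
    have ha3 : a ^ 3 = 1 := by
      obtain ⟨i, rfl⟩ := ha
      rw [← zpow_natCast, ← zpow_mul, mul_comm, zpow_mul, zpow_natCast, hx3, one_zpow]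
    have hb2 : b = 1 ∨ b = t := by
      obtain ⟨i, rfl⟩ := hb
      rcases Int.even_or_odd i with ⟨j, rfl⟩ | ⟨j, rfl⟩
      · left
        show t ^ (j + j) = 1
        rw [← two_mul, zpow_mul, zpow_two, ht2, one_zpow]
      · right
        show t ^ (2 * j + 1) = t
        rw [zpow_add, zpow_mul, zpow_two, ht2, one_zpow, one_mul, zpow_one]
    rcases hb2 with rfl | rfl
    · simp only [mul_one] at hgU ⊢
      rw [mem_bot, ← orderOf_eq_one_iff]
      exact Nat.eq_one_of_dvd_coprimes (by norm_num : Nat.Coprime 3 8)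
        (orderOf_dvd_of_pow_eq_one ha3) (hU8 ▸ orderOf_dvd_natCard U hgU)
    · exfalso
      -- `a * t` lies in `U`, so its image commutes with its conjugate by `x`
      obtain ⟨i, rfl⟩ := ha
      have h1 : φ (x ^ i * b) ∈ V := mem_map_of_mem φ hgU
      have h2 : x * (x ^ i * b) * x⁻¹ * (x ^ i * b)⁻¹ ∈ U :=
        mul_mem (hUn.conj_mem _ hgU x) (inv_mem hgU)
      have h3 : x * (x ^ i * b) * x⁻¹ * (x ^ i * b)⁻¹ = x * x := by
        have hbx : b * x⁻¹ * b⁻¹ = x := by
          rw [← conj_inv, htx, inv_inv]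
        calc x * (x ^ i * b) * x⁻¹ * (x ^ i * b)⁻¹
            = x * x ^ i * (b * x⁻¹ * b⁻¹) * (x ^ i)⁻¹ := by group
          _ = x * x ^ i * x * (x ^ i)⁻¹ := by rw [hbx]
          _ = x * x := by
            rw [mul_assoc x (x ^ i) x, (Commute.zpow_self x i).eq, ← mul_assoc x x (x ^ i),
              mul_assoc, mul_inv_cancel, mul_one]
      rw [h3] at h2
      refine hx1 ?_
      rw [← orderOf_eq_one_iff]
      have h4 : x ∈ U := by
        have : x = (x * x) * (x * x) := by
          calc x = x * x ^ 3 := by rw [hx3, mul_one]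
            _ = _ := by simp only [pow_succ, pow_zero, one_mul, mul_assoc]
        rw [this]; exact mul_mem h2 h2
      exact Nat.eq_one_of_dvd_coprimes (by norm_num : Nat.Coprime 3 8)
        (orderOf_dvd_of_pow_eq_one hx3) (hU8 ▸ orderOf_dvd_natCard U h4)
  · right
    push Not at hinv
    refine ⟨hG48, ?_, ⟨(QuotientGroup.quotientMulEquivOfEq hcen).trans
      (QuotientGroup.quotientKerEquivOfSurjective φ hsurj)⟩, fun P => ?_⟩
    · rw [hcen, hker, hCcard]
    have hcardP : Nat.card (P : Subgroup G) = 16 := by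
      rw [← h16]; exact Nat.card_congr (P.equiv S).toEquiv
    have huniq : ∀ a b : (P : Subgroup G), orderOf a = 2 → orderOf b = 2 → a = b := by
      intro a b ha hb
      have key : ∀ c : G, orderOf c = 2 → c = z := by
        intro c hc
        have hcU := hinv c hc
        have hc2 : c * c = 1 := by rw [← pow_two, ← hc, pow_orderOf_eq_one]
        have h : ∀ y : QuaternionGroup 2, y * y = 1 → y = .a 0 ∨ y = .a 2 := by decide +kernel
        have hc' : e ⟨c, hcU⟩ * e ⟨c, hcU⟩ = 1 := by
          rw [← map_mul, show (⟨c, hcU⟩ : U) * ⟨c, hcU⟩ = 1 from Subtype.ext hc2, map_one]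
        rcases h _ hc' with h1 | h1
        · exfalso
          have : (⟨c, hcU⟩ : U) = 1 := e.injective (by rw [h1, map_one]; rfl)
          rw [show c = 1 from congrArg Subtype.val this, orderOf_one] at hc
          norm_num at hc
        · rw [hz, ← h1, MulEquiv.symm_apply_apply]
      apply Subtype.ext
      rw [key a (by rw [Subgroup.orderOf_coe, ha]), key b (by rw [Subgroup.orderOf_coe, hb])]
    rcases isCyclic_or_quaternion_of_unique P.2 huniq with hcyc | ⟨n, ⟨f⟩⟩
    · exfalso
      obtain ⟨u, v, huv⟩ := quat8_not_comm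
      haveI : (U.subgroupOf (P : Subgroup G)).Normal := inferInstance
      have hUP : U ≤ (P : Subgroup G) := by
        obtain ⟨g, rfl⟩ := MulAction.exists_smul_eq G S P
        intro w hw
        rw [Sylow.coe_subgroup_smul, mem_pointwise_smul_iff_inv_smul_mem]
        refine hUS ?_
        have := hUn.conj_mem w hw g⁻¹
        simpa [MulAut.smul_def] using this
      haveI := hcyc
      have hUc : IsCyclic U := isCyclic_of_injective (inclusion hUP) (inclusion_injective hUP)
      haveI := hUc
      refine huv ?_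
      have h := (IsCyclic.commGroup (α := U)).mul_comm (e.symm u) (e.symm v)
      simpa using congrArg e h
    · have hn2 : n = 2 := by
        have h := Nat.card_congr f.toEquiv
        rw [hcardP, Nat.card_eq_fintype_card, QuaternionGroup.card] at h
        have : 2 ^ n = 2 ^ 2 := by omega
        exact Nat.pow_right_injective le_rfl this
      subst hn2
      exact ⟨f⟩

/-- The main statement for groups with trivial odd core. -/
theorem main_of_oddCore_eq_bot (hs : Group.IsSolvable G) (hO : Cfsg.oddCore G = ⊥)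
    (hI : ∀ S T : Sylow 2 G, S ≠ T → Cfsg.PRankLE 2 1 ↥((S : Subgroup G) ⊓ (T : Subgroup G))) :
    (∃ P : Sylow 2 G, (P : Subgroup G).Normal) ∨
    Nonempty (G ≃* GL (Fin 2) (ZMod 3)) ∨
    (Nat.card G = 48 ∧ Nat.card ↥(center G) = 2 ∧
      Nonempty (G ⧸ center G ≃* Equiv.Perm (Fin 4)) ∧
      ∀ P : Sylow 2 G, Nonempty (↥(P : Subgroup G) ≃* QuaternionGroup 4)) := by
  refine or_iff_not_imp_left.mpr fun hno => ?_
  push Not at hno
  haveI := hs
  set U := Cfsg.pCore 2 G
  haveI : U.Characteristic := PSolvable.pCore_characteristic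
  haveI : U.Normal := inferInstance
  have hC : centralizer (U : Set G) ≤ U := PSolvable.centralizer_pCore_le_of_isPSolvable
    (PSolvable.isPSolvable_of_isSolvable (p := 2) (G := G)) hO
  obtain ⟨S⟩ : Nonempty (Sylow 2 G) := inferInstance
  have hne : ∃ T : Sylow 2 G, S ≠ T := by
    by_contra hall
    push Not at hall
    haveI : Subsingleton (Sylow 2 G) := ⟨fun a b => (hall a).symm.trans (hall b)⟩
    exact hno S (S.normal_of_subsingleton)
  obtain ⟨T, hT⟩ := hne
  have hUS : U ≤ (S : Subgroup G) := PSolvable.pCore_le_sylow S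
  have hUT : U ≤ (T : Subgroup G) := PSolvable.pCore_le_sylow T
  have hUp : IsPGroup 2 U := PSolvable.pCore_isPGroup
  have hrank : Cfsg.PRankLE 2 1 U :=
    pRankLE_of_injective (inclusion (le_inf hUS hUT)) (inclusion_injective _) (hI S T hT)
  have hcase : (∃ e : U ≃* QuaternionGroup 2, True) ∨ IsPGroup 2 (MulAut U) := by
    rcases isCyclic_or_quaternion_of_unique hUp (fun a b => orderOf_two_unique hUp hrank)
      with hc | ⟨n, ⟨e⟩⟩
    · exact Or.inr (isPGroup_mulAut_of_isCyclic hUp hc)
    · rcases n with _ | _ | n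
      · refine Or.inr (isPGroup_mulAut_of_isCyclic hUp ?_)
        haveI := QuaternionGroup.quaternionGroup_one_isCyclic
        exact isCyclic_of_surjective e.symm e.symm.surjective
      · exact Or.inl ⟨e, trivial⟩
      · exact Or.inr ((Cfsg.Agent.S5112.isPGroup_mulAut_quaternion (n + 2) (by omega)).of_equiv
          (MulAut.congr e).symm)
  rcases hcase with ⟨e, -⟩ | haut
  · exact of_quaternion_eight U e hC (hno S) hUS
  · exfalso
    refine hno S ?_
    have hG : IsPGroup 2 G := by
      intro g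
      obtain ⟨k, hk⟩ := haut (MulAut.conjNormal g)
      have hgC : g ^ 2 ^ k ∈ centralizer (U : Set G) := by
        rw [mem_centralizer_iff]
        intro u hu
        rw [← map_pow] at hk
        have h2 := congrArg (fun f : MulAut U => ((f ⟨u, hu⟩ : U) : G)) hk
        simp only [MulAut.conjNormal_apply, MulAut.one_apply] at h2
        exact (mul_inv_eq_iff_eq_mul.mp h2).symm
      obtain ⟨l, hl⟩ := hUp ⟨_, hC hgC⟩
      refine ⟨k + l, ?_⟩
      rw [pow_add, pow_mul]
      exact congrArg Subtype.val hl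
    have : (S : Subgroup G) = ⊤ :=
      (S.3 (hG.to_subgroup ⊤) le_top).symm
    rw [this]
    infer_instance

end Cfsg.Agent.Lib.TwoRankInter
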