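import Mathlib

/-!
The quaternion subgroup of `GL(2, 3)` and the stabiliser of a vector.
-/

set_option autoImplicit false

namespace Cfsg.Agent.Lib.TwoRankInter

open Subgroup

local notation "Q8" => QuaternionGroup 2

/-! ### The group `GL(2, 3)` -/

local notation "G23" => GL (Fin 2) (ZMod 3)

/-- `i` -/
def iMat : G23 := ⟨!![0, 2; 1, 0], !![0, 1; 2, 0], by decide, by decide⟩

/-- `j` -/
def jMat : G23 := ⟨!![1, 1; 1, 2], !![2, 2; 2, 1], by decide, by decide⟩

/-- The quaternion map. -/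
def quatFun : Q8 → G23
  | .a k => iMat ^ k.val
  | .xa k => jMat * iMat ^ k.val

theorem quatFun_mul : ∀ x y : Q8, quatFun (x * y) = quatFun x * quatFun y := by
  decide +kernel

/-- The quaternion subgroup of `GL(2, 3)`. -/
def quatHom : Q8 →* G23 := MonoidHom.mk' quatFun quatFun_mul

theorem quatHom_ker : ∀ x : Q8, quatFun x = 1 → x = 1 := by decide +kernel

theorem quatHom_conj : ∀ (g : G23) (x : Q8), ∃ y : Q8, g * quatFun x = quatFun y * g := by
  decide +kernel

theorem quatHom_cent : ∀ g : G23, g * quatFun (.a 1) = quatFun (.a 1) * g →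
    g * quatFun (.xa 0) = quatFun (.xa 0) * g → ∃ y : Q8, quatFun y = g := by
  decide +kernel

theorem gl23_upper_inter : ∀ x : Q8,
    (quatFun x : Matrix (Fin 2) (Fin 2) (ZMod 3)).mulVec ![1, 0] = ![1, 0] → x = 1 := by
  decide +kernel

/-- The stabiliser of a vector. -/
def vecStab : Subgroup G23 where
  carrier := {g | (g : Matrix (Fin 2) (Fin 2) (ZMod 3)).mulVec ![1, 0] = ![1, 0]}
  one_mem' := by simp
  mul_mem' := fun {a b} ha hb => by
    show ((a * b : G23) : Matrix (Fin 2) (Fin 2) (ZMod 3)).mulVec ![1, 0] = ![1, 0]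
    rw [Units.val_mul, ← Matrix.mulVec_mulVec, hb, ha]
  inv_mem' := fun {a} ha => by
    show ((a⁻¹ : G23) : Matrix (Fin 2) (Fin 2) (ZMod 3)).mulVec ![1, 0] = ![1, 0]
    conv_lhs => rw [← ha, Matrix.mulVec_mulVec, ← Units.val_mul, inv_mul_cancel, Units.val_one,
      Matrix.one_mulVec]

theorem card_gl23 : Nat.card G23 = 48 := by
  haveI : Fact (Nat.Prime 3) := ⟨Nat.prime_three⟩
  rw [Matrix.card_GL_field]
  simp [Fin.prod_univ_two]

theorem card_vecStab_filter : (Finset.univ.filter fun g : G23 =>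
      (g : Matrix (Fin 2) (Fin 2) (ZMod 3)).mulVec ![1, 0] = ![1, 0]).card = 6 := by decide +kernel

theorem card_vecStab : Nat.card vecStab = 6 := by
  rw [← card_vecStab_filter, ← Fintype.card_subtype, ← Nat.card_eq_fintype_card]
  rfl

end Cfsg.Agent.Lib.TwoRankInter
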