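import Mathlib
import Cfsg.Agent.S3742
import Cfsg.Agent.Lib.TwoRankInter.QuatEightData

/-!
Split extensions of the quaternion group of order 8 by a group of order 6 acting faithfully.

Two such groups are isomorphic; in particular they are isomorphic to `GL(2, 3)`.
-/

set_option autoImplicit false

namespace Cfsg.Agent.Lib.TwoRankInter

open Subgroup
open scoped Pointwise

local notation "Q8" => QuaternionGroup 2

theorem perm4_order_three_fixes :
    ∀ c : Equiv.Perm (Fin 4), c ^ 3 = 1 → c ≠ 1 →
      ∃ i, c i = i ∧ ∀ j, c j = j → j = i := by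
  decide +kernel

/-- A subgroup of order 6 of `Sym(4)` fixes a point. -/
theorem exists_eq_stabilizer {K : Subgroup (Equiv.Perm (Fin 4))} (hK : Nat.card K = 6) :
    ∃ i : Fin 4, K = MulAction.stabilizer (Equiv.Perm (Fin 4)) i := by
  haveI : Fact (Nat.Prime 3) := ⟨Nat.prime_three⟩
  obtain ⟨⟨c, hc⟩, hco⟩ := exists_prime_orderOf_dvd_card' (G := K) 3 (by rw [hK]; norm_num)
  rw [Subgroup.orderOf_mk] at hco
  set C := zpowers c
  have hCK : C ≤ K := zpowers_le.mpr hc
  have hidx : (C.subgroupOf K).index = 2 := by
    have h1 := card_mul_index (C.subgroupOf K)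
    rw [Nat.card_congr (subgroupOfEquivOfLe hCK).toEquiv, Nat.card_zpowers, hco, hK] at h1
    omega
  have hn : (C.subgroupOf K).Normal := normal_of_index_eq_two hidx
  have hc3 : c ^ 3 = 1 := by rw [← hco, pow_orderOf_eq_one]
  have hc1 : c ≠ 1 := fun e => by rw [e, orderOf_one] at hco; norm_num at hco
  obtain ⟨i, hi, huniq⟩ := perm4_order_three_fixes c hc3 hc1
  refine ⟨i, eq_of_le_of_card_ge (fun k hk => ?_) ?_⟩
  · have hmem : k⁻¹ * c * k ∈ C := by
      have := hn.conj_mem ⟨c, hc⟩ (mem_subgroupOf.mpr (mem_zpowers c)) ⟨k⁻¹, inv_mem hk⟩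
      simpa [mem_subgroupOf] using this
    have hCi : C ≤ MulAction.stabilizer (Equiv.Perm (Fin 4)) i := zpowers_le.mpr hi
    have h2 : (k⁻¹ * c * k) i = i := hCi hmem
    have h3 : c (k i) = k i := by
      simp only [Equiv.Perm.mul_apply] at h2
      simpa using congrArg k h2
    exact huniq (k i) h3
  · rw [hK]
    have h := MulAction.index_stabilizer_of_transitive (Equiv.Perm (Fin 4)) i
    have h1 := card_mul_index (MulAction.stabilizer (Equiv.Perm (Fin 4)) i)
    rw [h, Nat.card_perm, Nat.card_fin] at h1
    simp only [show Nat.factorial 4 = 24 from rfl] at h1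
    omega

/-- Subgroups of order 6 of `Sym(4)` are conjugate. -/
theorem exists_conj_of_card_six {K K' : Subgroup (Equiv.Perm (Fin 4))} (hK : Nat.card K = 6)
    (hK' : Nat.card K' = 6) : ∃ σ : Equiv.Perm (Fin 4), K.map (MulAut.conj σ).toMonoidHom = K' := by
  obtain ⟨i, rfl⟩ := exists_eq_stabilizer hK
  obtain ⟨j, rfl⟩ := exists_eq_stabilizer hK'
  refine ⟨Equiv.swap i j, ?_⟩
  rw [← MulAction.stabilizer_smul_eq_stabilizer_map_conj, Equiv.Perm.smul_def,
    Equiv.swap_apply_left]

/-- A group split over a self-centralising normal `Q₈` with complement of order 6. -/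
structure Split (A : Type*) [Group A] where
  U : Subgroup A
  normal : U.Normal
  e : U ≃* Q8
  cent : centralizer (U : Set A) ≤ U
  L : Subgroup A
  card : Nat.card L = 6
  compl : U.IsComplement' L

variable {A : Type*} [Group A]

/-- The action of the complement on `Q₈`. -/
noncomputable def Split.act (s : Split A) : s.L →* MulAut Q8 :=
  haveI := s.normal
  (MulAut.congr s.e).toMonoidHom.comp (MulAut.conjNormal.comp s.L.subtype)

theorem Split.act_injective (s : Split A) : Function.Injective s.act := by
  haveI := s.normal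
  rw [injective_iff_map_eq_one]
  intro l hl
  have h1 : MulAut.conjNormal (l : A) = (1 : MulAut s.U) :=
    (MulAut.congr s.e).injective (hl.trans (map_one _).symm)
  have hC : (l : A) ∈ centralizer (s.U : Set A) := by
    rw [mem_centralizer_iff]
    intro u hu
    have h2 := congrArg (fun f : MulAut s.U => ((f ⟨u, hu⟩ : s.U) : A)) h1
    simp only [MulAut.conjNormal_apply, MulAut.one_apply] at h2
    exact (mul_inv_eq_iff_eq_mul.mp h2).symm
  have h3 := s.compl.disjoint.le_bot ⟨s.cent hC, l.2⟩
  exact Subtype.ext (mem_bot.mp h3)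

/-- A split group is a semidirect product. -/
noncomputable def Split.equiv (s : Split A) : SemidirectProduct Q8 s.L s.act ≃* A :=
  haveI := s.normal
  (SemidirectProduct.congr s.e (MulEquiv.refl s.L) fun l => by
      refine MulEquiv.ext fun u => ?_
      simp [Split.act, MulAut.congr, MulAut.conjNormal]
      exact Subtype.ext rfl).symm.trans
    (SemidirectProduct.mulEquivSubgroup s.compl)

/-- Uniqueness of the split extension. -/
theorem Split.nonempty_mulEquiv [Finite A] {B : Type*} [Group B] [Finite B] (s : Split A)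
    (t : Split B) : Nonempty (A ≃* B) := by
  obtain ⟨Φ⟩ := Cfsg.Agent.S3742.result
  set fA : s.L →* Equiv.Perm (Fin 4) := Φ.toMonoidHom.comp s.act
  set fB : t.L →* Equiv.Perm (Fin 4) := Φ.toMonoidHom.comp t.act
  have hA : Function.Injective fA := Φ.injective.comp s.act_injective
  have hB : Function.Injective fB := Φ.injective.comp t.act_injective
  have cA : Nat.card fA.range = 6 := by
    rw [← s.card]; exact (Nat.card_congr (MonoidHom.ofInjective hA).toEquiv).symm
  have cB : Nat.card fB.range = 6 := by
    rw [← t.card]; exact (Nat.card_congr (MonoidHom.ofInjective hB).toEquiv).symm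
  obtain ⟨σ, hσ⟩ := exists_conj_of_card_six cA cB
  set α := Φ.symm σ
  let fA' : s.L →* Equiv.Perm (Fin 4) := (MulAut.conj σ).toMonoidHom.comp fA
  have hA' : Function.Injective fA' := (MulAut.conj σ).injective.comp hA
  have hr : fA'.range = fB.range := by rw [MonoidHom.range_comp, hσ]
  let θ : s.L ≃* t.L := (MonoidHom.ofInjective hA').trans
    ((MulEquiv.subgroupCongr hr).trans (MonoidHom.ofInjective hB).symm)
  have hθ : ∀ l, t.act (θ l) = α * s.act l * α⁻¹ := by
    intro l
    refine Φ.injective ?_
    have h1 : fB (θ l) = fA' l := by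
      have := congrArg (fun x : fB.range => (x : Equiv.Perm (Fin 4)))
        ((MonoidHom.ofInjective hB).apply_symm_apply ((MulEquiv.subgroupCongr hr)
          (MonoidHom.ofInjective hA' l)))
      exact this
    simp only [map_mul, map_inv, α, MulEquiv.apply_symm_apply]
    exact h1
  refine ⟨s.equiv.symm.trans ((SemidirectProduct.congr α θ fun l => ?_).trans t.equiv)⟩
  refine MulEquiv.ext fun u => ?_
  show α (s.act l u) = t.act (θ l) (α u)
  rw [hθ, MulAut.mul_apply, MulAut.mul_apply, MulAut.inv_apply_self]

local notation "G23" => GL (Fin 2) (ZMod 3)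

/-- `GL(2, 3)` is split. -/
noncomputable def splitGL23 : Split G23 where
  U := quatHom.range
  normal := ⟨fun x hx g => by
    obtain ⟨z, rfl⟩ := hx
    obtain ⟨y, hy⟩ := quatHom_conj g z
    refine ⟨y, ?_⟩
    show quatFun y = g * quatFun z * g⁻¹
    rw [hy, mul_inv_cancel_right]⟩
  e := (MonoidHom.ofInjective ((injective_iff_map_eq_one quatHom).mpr quatHom_ker)).symm
  cent := fun g hg => by
    rw [mem_centralizer_iff] at hg
    obtain ⟨y, hy⟩ := quatHom_cent g (hg _ ⟨.a 1, rfl⟩).symm (hg _ ⟨.xa 0, rfl⟩).symm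
    exact ⟨y, hy⟩
  L := vecStab
  card := card_vecStab
  compl := by
    refine isComplement'_of_card_mul_and_disjoint ?_ (disjoint_iff_inf_le.mpr ?_)
    · rw [card_vecStab, card_gl23]
      have h : Nat.card quatHom.range = Nat.card Q8 := (Nat.card_congr
        (MonoidHom.ofInjective ((injective_iff_map_eq_one quatHom).mpr quatHom_ker)).toEquiv).symm
      rw [h, Nat.card_eq_fintype_card, QuaternionGroup.card]
    · rintro g ⟨⟨x, rfl⟩, hx⟩
      rw [mem_bot, gl23_upper_inter x hx, map_one]

theorem Split.nonempty_mulEquiv_gl23 [Finite A] (s : Split A) : Nonempty (A ≃* G23) :=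
  s.nonempty_mulEquiv splitGL23

end Cfsg.Agent.Lib.TwoRankInter
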